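import Mathlib

/-!
# Absolute irreducibility of monic polynomials spreads out
-/

universe u

open Polynomial

set_option linter.style.haveILetI false
set_option linter.unusedSectionVars false

attribute [local instance] MvPolynomial.algebraMvPolynomial

namespace Groth.Agent.GeomIrredSpread

variable {σ : Type u} [Finite σ]

/-- The monic polynomial with prescribed lower coefficients. -/
noncomputable def mk (S : Finset (σ →₀ ℕ)) {R : Type u} [CommRing R] (i : ℕ) (a : ℕ → (σ →₀ ℕ) → R) :
    (MvPolynomial σ R)[X] :=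
  X ^ i + ∑ j ∈ Finset.range i, C (∑ m ∈ S, MvPolynomial.monomial m (a j m)) * X ^ j

omit [Finite σ] in
theorem map_mk (S : Finset (σ →₀ ℕ)) {R R' : Type u} [CommRing R] [CommRing R'] (φ : R →+* R')
    (i : ℕ) (a : ℕ → (σ →₀ ℕ) → R) :
    (mk S i a).map (MvPolynomial.map φ) = mk S i fun j m ↦ φ (a j m) := by
  simp [mk, Polynomial.map_sum, MvPolynomial.map_monomial]

omit [Finite σ] in
theorem mk_monic_natDegree (S : Finset (σ →₀ ℕ)) {R : Type u} [CommRing R] [Nontrivial R] (i : ℕ)
    (a : ℕ → (σ →₀ ℕ) → R) : (mk S i a).Monic ∧ (mk S i a).natDegree = i := by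
  have hdeg : (∑ j ∈ Finset.range i, C (∑ m ∈ S, MvPolynomial.monomial m (a j m)) * X ^ j).degree
      < (i : WithBot ℕ) := by
    refine (Polynomial.degree_sum_le _ _).trans_lt ((Finset.sup_lt_iff (WithBot.bot_lt_coe i)).mpr ?_)
    intro j hj
    exact (Polynomial.degree_C_mul_X_pow_le j _).trans_lt
      (WithBot.coe_lt_coe.mpr (Finset.mem_range.mp hj))
  refine ⟨Polynomial.monic_X_pow_add hdeg, ?_⟩
  have h1 : (mk S i a).degree = (i : WithBot ℕ) := by
    rw [mk, Polynomial.degree_add_eq_left_of_degree_lt (by rwa [Polynomial.degree_X_pow]),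
      Polynomial.degree_X_pow]
  exact Polynomial.natDegree_eq_of_degree_eq_some h1

omit [Finite σ] in
theorem eq_mk_of_monic {R : Type u} [CommRing R] {S : Finset (σ →₀ ℕ)}
    {P : (MvPolynomial σ R)[X]} (hP : P.Monic) (hS : ∀ j, (P.coeff j).support ⊆ S) :
    P = mk S P.natDegree fun j m ↦ (P.coeff j).coeff m := by
  conv_lhs => rw [hP.as_sum]
  rw [mk]
  refine congrArg _ (Finset.sum_congr rfl fun j _ ↦ ?_)
  congr 2
  conv_lhs => rw [(P.coeff j).as_sum]
  refine Finset.sum_subset (hS j) fun m _ hm ↦ ?_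
  rw [MvPolynomial.notMem_support_iff.mp hm, MvPolynomial.monomial_zero]

/-- All exponents bounded by `D`. -/
noncomputable def box (σ : Type u) [Finite σ] (D : ℕ) : Finset (σ →₀ ℕ) := by
  classical
  exact Finset.Iic (Finsupp.equivFunOnFinite.symm fun _ ↦ D)

theorem support_coeff_subset_box {R : Type u} [CommRing R] (P : (MvPolynomial σ R)[X]) {D : ℕ}
    (hD : ((MvPolynomial.optionEquivLeft R σ).symm P).totalDegree ≤ D) (j : ℕ) :
    (P.coeff j).support ⊆ box σ D := by
  classical
  intro m hm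
  rw [box, Finset.mem_Iic]
  intro i
  have h1 : m.optionElim j ∈ ((MvPolynomial.optionEquivLeft R σ).symm P).support := by
    rw [MvPolynomial.mem_support_iff] at hm ⊢
    rw [← MvPolynomial.optionEquivLeft_coeff_some_coeff_none, AlgEquiv.apply_symm_apply]
    simpa using hm
  have h2 := (MvPolynomial.le_totalDegree h1).trans hD
  have h3 : m i ≤ (m.optionElim j).sum fun _ ↦ id := by
    by_cases h : m i = 0
    · simp [h]
    · have hmem : some i ∈ (m.optionElim j).support := by simpa using h
      have := Finset.single_le_sum (f := fun o ↦ (m.optionElim j) o) (fun _ _ ↦ Nat.zero_le _) hmem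
      simpa [Finsupp.sum] using this
  simpa using h3.trans h2

variable {A : Type u} [CommRing A]

theorem totalDegree_symm_map_le {R : Type u} [CommRing R] (φ : A →+* R) (F : (MvPolynomial σ A)[X]) :
    ((MvPolynomial.optionEquivLeft R σ).symm (F.map (MvPolynomial.map φ))).totalDegree ≤
      ((MvPolynomial.optionEquivLeft A σ).symm F).totalDegree := by
  have h : (MvPolynomial.optionEquivLeft R σ).symm (F.map (MvPolynomial.map φ)) =
      MvPolynomial.map φ ((MvPolynomial.optionEquivLeft A σ).symm F) := by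
    rw [AlgEquiv.symm_apply_eq]
    have hcomp : (Polynomial.mapRingHom (MvPolynomial.map (σ := σ) φ)).comp
          ((MvPolynomial.optionEquivLeft A σ : MvPolynomial (Option σ) A →ₐ[A] _).toRingHom) =
        ((MvPolynomial.optionEquivLeft R σ : MvPolynomial (Option σ) R →ₐ[R] _).toRingHom).comp
          (MvPolynomial.map φ) := by
      refine MvPolynomial.ringHom_ext (fun r ↦ ?_) (fun o ↦ ?_)
      · simp
      · cases o <;> simp
    have h2 := congr($hcomp ((MvPolynomial.optionEquivLeft A σ).symm F))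
    simpa using h2
  rw [h]
  exact Finset.sup_mono (MvPolynomial.support_map_subset φ ((MvPolynomial.optionEquivLeft A σ).symm F))

/-- A monic polynomial irreducible over an algebraically closed field containing `A` stays
irreducible at all points of a non-empty open of `Spec A`. -/
theorem exists_forall_irreducible_map [IsDomain A] {Ω : Type u} [Field Ω] [IsAlgClosed Ω] [Algebra A Ω]
    (hinj : Function.Injective (algebraMap A Ω)) (F : (MvPolynomial σ A)[X]) (hF : F.Monic)
    (hirr : Irreducible (F.map (MvPolynomial.map (algebraMap A Ω)))) :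
    ∃ f : A, f ≠ 0 ∧ ∀ (k : Type u) [Field k] (φ : A →+* k), φ f ≠ 0 →
      Irreducible (F.map (MvPolynomial.map φ)) := by
  classical
  set n := F.natDegree with hn
  set D := ((MvPolynomial.optionEquivLeft A σ).symm F).totalDegree with hD
  set S := box σ D
  let ι := Bool × Fin n × {m // m ∈ S}
  let a : Bool → ℕ → (σ →₀ ℕ) → MvPolynomial ι A := fun b j m ↦
    if h : j < n ∧ m ∈ S then MvPolynomial.X (b, ⟨j, h.1⟩, ⟨m, h.2⟩) else 0
  let P : ℕ → (MvPolynomial σ (MvPolynomial ι A))[X] := fun i ↦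
    mk S i (a true) * mk S (n - i) (a false) - F.map (MvPolynomial.map (MvPolynomial.C))
  let J : ℕ → Ideal (MvPolynomial ι A) := fun i ↦
    Ideal.span (Set.range fun jm : ℕ × (σ →₀ ℕ) ↦ ((P i).coeff jm.1).coeff jm.2)
  have hval : ∀ (i : ℕ) {R : Type u} [CommRing R] (ψ : MvPolynomial ι A →+* R),
      J i ≤ RingHom.ker ψ ↔ (P i).map (MvPolynomial.map ψ) = 0 := by
    intro i R _ ψ
    rw [Ideal.span_le]
    constructor
    · intro h
      ext j m
      rw [Polynomial.coeff_map, MvPolynomial.coeff_map, Polynomial.coeff_zero, MvPolynomial.coeff_zero]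
      exact h ⟨(j, m), rfl⟩
    · rintro h _ ⟨jm, rfl⟩
      show ψ _ = 0
      rw [← MvPolynomial.coeff_map, ← Polynomial.coeff_map, h]
      simp
  have key : ∀ i, 0 < i → i < n → ∃ f : A, f ≠ 0 ∧ MvPolynomial.C f ∈ J i := by
    intro i hi hin
    by_contra hcon
    push Not at hcon
    let K := FractionRing A
    let M : Submonoid (MvPolynomial ι A) := (nonZeroDivisors A).map MvPolynomial.C
    have hdisj : Disjoint (J i : Set (MvPolynomial ι A)) M := by
      rw [Set.disjoint_left]
      rintro _ hx ⟨c, hc, rfl⟩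
      exact hcon c (nonZeroDivisors.ne_zero hc) hx
    have hne : (J i).map (algebraMap (MvPolynomial ι A) (MvPolynomial ι K)) ≠ ⊤ := fun h ↦
      ((IsLocalization.map_algebraMap_ne_top_iff_disjoint M (MvPolynomial ι K) (J i)).mpr hdisj.symm) h
    obtain ⟨m, hm, hJm⟩ := Ideal.exists_le_maximal _ hne
    letI := Ideal.Quotient.field m
    have : Module.Finite K (MvPolynomial ι K ⧸ m) :=
      finite_of_finite_type_of_isJacobsonRing K (MvPolynomial ι K ⧸ m)
    let _ : Algebra K Ω := (IsFractionRing.lift hinj).toAlgebra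
    let θ : MvPolynomial ι K ⧸ m →ₐ[K] Ω := IsAlgClosed.lift
    let ψ : MvPolynomial ι A →+* Ω :=
      (θ.toRingHom.comp (Ideal.Quotient.mk m)).comp (algebraMap (MvPolynomial ι A) (MvPolynomial ι K))
    have hψ : J i ≤ RingHom.ker ψ := fun x hx ↦ by
      have hmem : algebraMap (MvPolynomial ι A) (MvPolynomial ι K) x ∈ m := hJm (Ideal.mem_map_of_mem _ hx)
      rw [RingHom.mem_ker]
      show θ (Ideal.Quotient.mk m (algebraMap (MvPolynomial ι A) (MvPolynomial ι K) x)) = 0
      rw [Ideal.Quotient.eq_zero_iff_mem.mpr hmem, map_zero]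
    have hψC : ψ.comp MvPolynomial.C = algebraMap A Ω := by
      ext c
      show θ (Ideal.Quotient.mk m (algebraMap (MvPolynomial ι A) (MvPolynomial ι K) (MvPolynomial.C c))) = _
      rw [MvPolynomial.algebraMap_def, MvPolynomial.map_C, ← MvPolynomial.algebraMap_eq]
      show θ (algebraMap K (MvPolynomial ι K ⧸ m) (algebraMap A K c)) = _
      rw [AlgHom.commutes]
      exact IsFractionRing.lift_algebraMap hinj c
    have hz := (hval i ψ).mp hψ
    rw [Polynomial.map_sub, Polynomial.map_mul, map_mk, map_mk, sub_eq_zero, Polynomial.map_map] at hz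
    have hcomp : (MvPolynomial.map ψ).comp (MvPolynomial.map MvPolynomial.C) =
        MvPolynomial.map (σ := σ) (algebraMap A Ω) :=
      RingHom.ext fun p ↦ by rw [RingHom.comp_apply, MvPolynomial.map_map, hψC]
    rw [hcomp] at hz
    obtain ⟨h1, h1'⟩ := mk_monic_natDegree S i fun j m ↦ ψ (a true j m)
    obtain ⟨h2, h2'⟩ := mk_monic_natDegree S (n - i) fun j m ↦ ψ (a false j m)
    rcases ((hF.map _).irreducible_iff_natDegree.mp hirr).2 _ _ h1 h2 hz with h | h
    · rw [h1'] at h; omega
    · rw [h2'] at h; omega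
  choose g hg hgJ using key
  refine ⟨∏ i ∈ (Finset.Ioo 0 n).attach, g i.1 (Finset.mem_Ioo.mp i.2).1 (Finset.mem_Ioo.mp i.2).2,
    Finset.prod_ne_zero_iff.mpr fun i _ ↦ hg _ _ _, fun k _ φ hφ ↦ ?_⟩
  rw [map_prod] at hφ
  have hmonic : (F.map (MvPolynomial.map φ)).Monic := hF.map _
  have hn0 : n ≠ 0 := fun h0 ↦ by
    have : F = 1 := hF.natDegree_eq_zero.mp h0
    rw [this, Polynomial.map_one] at hirr
    exact hirr.not_isUnit isUnit_one
  have hdeg : (F.map (MvPolynomial.map φ)).natDegree = n := hF.natDegree_map _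
  refine hmonic.irreducible_iff_natDegree.mpr ⟨fun h1 ↦ hn0 (by rw [← hdeg, h1, natDegree_one]),
    fun G H hG hH hGH ↦ ?_⟩
  by_contra hne
  push Not at hne
  have hsum : G.natDegree + H.natDegree = n := by rw [← hG.natDegree_mul hH, hGH, hdeg]
  have hi0 : 0 < G.natDegree := Nat.pos_of_ne_zero hne.1
  have hin : G.natDegree < n := by have := Nat.pos_of_ne_zero hne.2; omega
  have hbound : ∀ Q : (MvPolynomial σ k)[X], Q ∣ F.map (MvPolynomial.map φ) →
      ∀ j, (Q.coeff j).support ⊆ S := fun Q hQ j ↦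
    support_coeff_subset_box Q ((MvPolynomial.totalDegree_le_of_dvd_of_isDomain (map_dvd _ hQ)
      (fun h ↦ hmonic.ne_zero (by simpa using h))).trans (totalDegree_symm_map_le φ F)) j
  let val : ι → k := fun bjm ↦
    if bjm.1 then (G.coeff bjm.2.1).coeff bjm.2.2.1 else (H.coeff bjm.2.1).coeff bjm.2.2.1
  let ψ : MvPolynomial ι A →+* k := MvPolynomial.eval₂Hom φ val
  have hψa : ∀ b j m, j < n → m ∈ S → ψ (a b j m) =
      if b then (G.coeff j).coeff m else (H.coeff j).coeff m := fun b j m hj hm ↦ by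
    simp [a, ψ, val, hj, hm]
  have hmk : ∀ (b : Bool) (Q : (MvPolynomial σ k)[X]), Q.Monic → Q ∣ F.map (MvPolynomial.map φ) →
      Q.natDegree ≤ n → (if b then G else H) = Q →
      mk S Q.natDegree (fun j m ↦ ψ (a b j m)) = Q := by
    intro b Q hQ hQd hQn hb
    conv_rhs => rw [eq_mk_of_monic hQ (hbound Q hQd)]
    rw [mk, mk]
    refine congrArg _ (Finset.sum_congr rfl fun j hj ↦ ?_)
    congr 2
    refine Finset.sum_congr rfl fun m hm ↦ ?_
    rw [hψa b j m (lt_of_lt_of_le (Finset.mem_range.mp hj) hQn) hm]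
    cases b <;> simp_all
  have hz : (P G.natDegree).map (MvPolynomial.map ψ) = 0 := by
    have hcomp : (MvPolynomial.map ψ).comp (MvPolynomial.map MvPolynomial.C) =
        MvPolynomial.map (σ := σ) φ :=
      RingHom.ext fun p ↦ by
        rw [RingHom.comp_apply, MvPolynomial.map_map]
        congr 2
        exact RingHom.ext fun c ↦ by simp [ψ]
    rw [Polynomial.map_sub, Polynomial.map_mul, map_mk, map_mk, Polynomial.map_map, hcomp,
      hmk true G hG ⟨H, hGH.symm⟩ hin.le rfl,
      show n - G.natDegree = H.natDegree by omega,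
      hmk false H hH ⟨G, by rw [mul_comm]; exact hGH.symm⟩ (by omega) rfl, hGH, sub_self]
  have h0 := (hval G.natDegree ψ).mpr hz (hgJ G.natDegree hi0 hin)
  rw [RingHom.mem_ker, show ψ (MvPolynomial.C (g G.natDegree hi0 hin)) = φ (g G.natDegree hi0 hin) from
    MvPolynomial.eval₂Hom_C _ _ _] at h0
  exact Finset.prod_ne_zero_iff.mp hφ ⟨G.natDegree, Finset.mem_Ioo.mpr ⟨hi0, hin⟩⟩
    (Finset.mem_attach _ _) h0

end Groth.Agent.GeomIrredSpread
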