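import Mathlib

/-!
# Localised hypersurfaces after change of the constants
-/

set_option linter.style.haveILetI false
set_option linter.unusedSectionVars false

universe u

open Polynomial TensorProduct

namespace Groth.Agent.GeomIrredSpread

variable {σ A : Type u} [CommRing A] (F : (MvPolynomial σ A)[X]) (h₀ : MvPolynomial σ A)

/-- The localised hypersurface. -/
abbrev Hyp : Type u := Localization.Away (AdjoinRoot.of F h₀)

variable (k : Type u) [CommRing k] [Algebra A k]

/-- The localised hypersurface with the constants changed. -/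
abbrev HypMap : Type u :=
  Hyp (F.map (MvPolynomial.map (algebraMap A k))) (MvPolynomial.map (algebraMap A k) h₀)

theorem exists_ringEquiv : Nonempty (Hyp F h₀ ⊗[A] k ≃+* HypMap F h₀ k) := by
  set m := MvPolynomial.map (σ := σ) (algebraMap A k) with hm
  set Fk := F.map m with hFk
  let L := algebraMap (AdjoinRoot Fk) (HypMap F h₀ k)
  -- the forward map on the hypersurface
  let a₀ : AdjoinRoot F →+* HypMap F h₀ k :=
    AdjoinRoot.lift ((L.comp (AdjoinRoot.of Fk)).comp m) (L (AdjoinRoot.root Fk)) (by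
      rw [← Polynomial.eval₂_map]
      show Fk.eval₂ _ _ = 0
      rw [← Polynomial.hom_eval₂, AdjoinRoot.eval₂_root, map_zero])
  have ha₀ : IsUnit (a₀ (AdjoinRoot.of F h₀)) := by
    rw [AdjoinRoot.lift_of]
    exact IsLocalization.Away.algebraMap_isUnit (S := HypMap F h₀ k) (AdjoinRoot.of Fk (m h₀))
  let a₁ : Hyp F h₀ →+* HypMap F h₀ k := IsLocalization.Away.lift (AdjoinRoot.of F h₀) ha₀
  letI : Algebra A (HypMap F h₀ k) :=
    (((L.comp (AdjoinRoot.of Fk)).comp MvPolynomial.C).comp (algebraMap A k)).toAlgebra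
  have ha₁ : ∀ c, a₁ (algebraMap A (Hyp F h₀) c) = algebraMap A (HypMap F h₀ k) c := fun c ↦ by
    rw [IsScalarTower.algebraMap_apply A (AdjoinRoot F) (Hyp F h₀) c, IsLocalization.Away.lift_eq]
    rw [show algebraMap A (AdjoinRoot F) c = AdjoinRoot.of F (MvPolynomial.C c) from rfl, AdjoinRoot.lift_of]
    show L (AdjoinRoot.of Fk (m (MvPolynomial.C c))) = L (AdjoinRoot.of Fk (MvPolynomial.C (algebraMap A k c)))
    rw [hm, MvPolynomial.map_C]
  let b₁ : k →ₐ[A] HypMap F h₀ k :=
    { (L.comp (AdjoinRoot.of Fk)).comp MvPolynomial.C with commutes' := fun _ ↦ rfl }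
  let χ : Hyp F h₀ ⊗[A] k →ₐ[A] HypMap F h₀ k :=
    Algebra.TensorProduct.productMap { a₁ with commutes' := ha₁ } b₁
  -- the inverse map
  let L' := algebraMap (AdjoinRoot F) (Hyp F h₀)
  let iL : Hyp F h₀ →+* Hyp F h₀ ⊗[A] k := Algebra.TensorProduct.includeLeftRingHom
  let iR : k →+* Hyp F h₀ ⊗[A] k := (Algebra.TensorProduct.includeRight (R := A)).toRingHom
  let e₀ : MvPolynomial σ k →+* Hyp F h₀ ⊗[A] k :=
    MvPolynomial.eval₂Hom iR fun i ↦ iL (L' (AdjoinRoot.of F (MvPolynomial.X i)))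
  have he₀ : e₀.comp m = (iL.comp L').comp (AdjoinRoot.of F) := by
    refine MvPolynomial.ringHom_ext (fun c ↦ ?_) fun i ↦ ?_
    · simp only [RingHom.comp_apply, hm, MvPolynomial.map_C, e₀, MvPolynomial.eval₂Hom_C]
      show (1 : Hyp F h₀) ⊗ₜ[A] algebraMap A k c = L' (AdjoinRoot.of F (MvPolynomial.C c)) ⊗ₜ[A] (1 : k)
      rw [show L' (AdjoinRoot.of F (MvPolynomial.C c)) = algebraMap A (Hyp F h₀) c from
        (IsScalarTower.algebraMap_apply A (AdjoinRoot F) (Hyp F h₀) c).symm,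
        Algebra.algebraMap_eq_smul_one, Algebra.algebraMap_eq_smul_one, TensorProduct.smul_tmul]
    · simp [hm, e₀]
  let c₀ : AdjoinRoot Fk →+* Hyp F h₀ ⊗[A] k :=
    AdjoinRoot.lift e₀ (iL (L' (AdjoinRoot.root F))) (by
      rw [hFk, Polynomial.eval₂_map, he₀,
        show iL (L' (AdjoinRoot.root F)) = (iL.comp L') (AdjoinRoot.root F) from rfl,
        ← Polynomial.hom_eval₂, AdjoinRoot.eval₂_root, map_zero])
  have hc₀ : IsUnit (c₀ (AdjoinRoot.of Fk (m h₀))) := by
    rw [AdjoinRoot.lift_of, show e₀ (m h₀) = iL (L' (AdjoinRoot.of F h₀)) from congr($he₀ h₀)]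
    exact (IsLocalization.Away.algebraMap_isUnit (S := Hyp F h₀) (AdjoinRoot.of F h₀)).map iL
  let ρ : HypMap F h₀ k →+* Hyp F h₀ ⊗[A] k := IsLocalization.Away.lift (AdjoinRoot.of Fk (m h₀)) hc₀
  have hχL : ∀ y, χ (iL y) = a₁ y := fun y ↦ by
    show χ (y ⊗ₜ[A] 1) = a₁ y
    rw [Algebra.TensorProduct.productMap_apply_tmul, map_one, mul_one]
    rfl
  have hχR : ∀ c, χ (iR c) = b₁ c := fun c ↦ by
    show χ ((1 : Hyp F h₀) ⊗ₜ[A] c) = b₁ c
    rw [Algebra.TensorProduct.productMap_apply_tmul, map_one, one_mul]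
  have hρL : ∀ y, ρ (L y) = c₀ y := fun y ↦ IsLocalization.Away.lift_eq _ hc₀ y
  have ha₁L : ∀ y, a₁ (L' y) = a₀ y := fun y ↦ IsLocalization.Away.lift_eq _ ha₀ y
  refine ⟨RingEquiv.ofRingHom χ.toRingHom ρ ?hcr ?hrc⟩
  case hrc =>
    have h1 : ρ.comp a₁ = iL := by
      refine IsLocalization.ringHom_ext (Submonoid.powers (AdjoinRoot.of F h₀)) ?_
      show (ρ.comp a₁).comp L' = iL.comp L'
      refine Ideal.Quotient.ringHom_ext (Polynomial.ringHom_ext' ?_ ?_)
      · refine RingHom.ext fun r ↦ ?_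
        show ρ (a₁ (L' (AdjoinRoot.of F r))) = iL (L' (AdjoinRoot.of F r))
        rw [ha₁L, AdjoinRoot.lift_of]
        show ρ (L (AdjoinRoot.of Fk (m r))) = _
        rw [hρL, AdjoinRoot.lift_of]
        exact congr($he₀ r)
      · show ρ (a₁ (L' (AdjoinRoot.root F))) = iL (L' (AdjoinRoot.root F))
        rw [ha₁L, AdjoinRoot.lift_root, hρL, AdjoinRoot.lift_root]
    refine RingHom.ext fun z ↦ ?_
    show ρ (χ z) = z
    induction z using TensorProduct.induction_on with
    | zero => simp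
    | add x y hx hy => rw [map_add, map_add, hx, hy]
    | tmul y c =>
      rw [Algebra.TensorProduct.productMap_apply_tmul, map_mul]
      show ρ (a₁ y) * ρ (L (AdjoinRoot.of Fk (MvPolynomial.C c))) = y ⊗ₜ[A] c
      rw [hρL, AdjoinRoot.lift_of, show ρ (a₁ y) = iL y from congr($h1 y), MvPolynomial.eval₂Hom_C]
      show (y ⊗ₜ[A] (1 : k)) * ((1 : Hyp F h₀) ⊗ₜ[A] c) = y ⊗ₜ[A] c
      rw [Algebra.TensorProduct.tmul_mul_tmul, mul_one, one_mul]
  case hcr =>
    refine IsLocalization.ringHom_ext (Submonoid.powers (AdjoinRoot.of Fk (m h₀))) ?_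
    show (χ.toRingHom.comp ρ).comp L = (RingHom.id _).comp L
    refine Ideal.Quotient.ringHom_ext (Polynomial.ringHom_ext' ?_ ?_)
    · refine MvPolynomial.ringHom_ext (fun c ↦ ?_) fun i ↦ ?_
      · show χ (ρ (L (AdjoinRoot.of Fk (MvPolynomial.C c)))) = L (AdjoinRoot.of Fk (MvPolynomial.C c))
        rw [hρL, AdjoinRoot.lift_of, MvPolynomial.eval₂Hom_C, hχR]
        rfl
      · show χ (ρ (L (AdjoinRoot.of Fk (MvPolynomial.X i)))) = L (AdjoinRoot.of Fk (MvPolynomial.X i))
        rw [hρL, AdjoinRoot.lift_of, MvPolynomial.eval₂Hom_X', hχL, ha₁L, AdjoinRoot.lift_of]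
        show L (AdjoinRoot.of Fk (m (MvPolynomial.X i))) = _
        rw [hm, MvPolynomial.map_X]
    · show χ (ρ (L (AdjoinRoot.root Fk))) = L (AdjoinRoot.root Fk)
      rw [hρL, AdjoinRoot.lift_root, hχL, ha₁L, AdjoinRoot.lift_root]

variable {F h₀}

/-- Irreducibility of the polynomial gives an irreducible spectrum. -/
theorem irreducibleSpace_hyp {k : Type u} [Field k] (G : (MvPolynomial σ k)[X]) (w : MvPolynomial σ k)
    (hG : Irreducible G) (hmon : G.Monic) (hw : w ≠ 0) : IrreducibleSpace (PrimeSpectrum (Hyp G w)) := by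
  have hp : Prime G := UniqueFactorizationMonoid.irreducible_iff_prime.mp hG
  have : IsDomain (AdjoinRoot G) := AdjoinRoot.isDomain_of_prime hp
  have hne : AdjoinRoot.of G w ≠ 0 := fun h0 ↦ by
    have h1 : AdjoinRoot.mk G (C w) = 0 := h0
    rw [AdjoinRoot.mk_eq_zero] at h1
    have hdeg : 0 < G.natDegree := Nat.pos_of_ne_zero fun h ↦ hG.not_isUnit (by
      rw [hmon.natDegree_eq_zero.mp h]; exact isUnit_one)
    have := Polynomial.natDegree_le_of_dvd h1 (by simpa using hw)
    rw [natDegree_C] at this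
    omega
  have : IsDomain (Hyp G w) := IsLocalization.isDomain_localization
    (powers_le_nonZeroDivisors_of_noZeroDivisors hne)
  infer_instance

/-- An irreducible spectrum gives irreducibility, in the separable case. -/
theorem irreducible_of_irreducibleSpace_hyp {k : Type u} [Field k] (G : (MvPolynomial σ k)[X])
    (w : MvPolynomial σ k) (hmon : G.Monic) (hdeg : G ≠ 1) (hw : w ≠ 0)
    (hsep : (G.map (algebraMap (MvPolynomial σ k) (FractionRing (MvPolynomial σ k)))).Separable)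
    (h : IrreducibleSpace (PrimeSpectrum (Hyp G w))) : Irreducible G := by
  refine hmon.irreducible_iff_natDegree.mpr ⟨hdeg, fun P Q hP hQ hPQ ↦ ?_⟩
  set j := algebraMap (MvPolynomial σ k) (FractionRing (MvPolynomial σ k))
  have hcop : IsCoprime (P.map j) (Q.map j) := by
    refine Separable.isCoprime ?_
    rwa [← Polynomial.map_mul, hPQ]
  have hnil : (nilradical (Hyp G w)).IsPrime :=
    PrimeSpectrum.irreducibleSpace_iff_isPrime_nilradical.mp h
  have hzero : algebraMap (AdjoinRoot G) (Hyp G w) (AdjoinRoot.mk G P) *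
      algebraMap (AdjoinRoot G) (Hyp G w) (AdjoinRoot.mk G Q) ∈ nilradical (Hyp G w) := by
    rw [← map_mul, ← map_mul, hPQ, AdjoinRoot.mk_self, map_zero]
    exact zero_mem _
  have key : ∀ P Q : (MvPolynomial σ k)[X], Q.Monic → P * Q = G → IsCoprime (P.map j) (Q.map j) →
      algebraMap (AdjoinRoot G) (Hyp G w) (AdjoinRoot.mk G P) ∈ nilradical (Hyp G w) → Q.natDegree = 0 := by
    intro P Q hQ hPQ hcop hmem
    obtain ⟨n, hn⟩ := hmem
    rw [← map_pow] at hn
    obtain ⟨⟨_, N, rfl⟩, hN⟩ :=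
      (IsLocalization.map_eq_zero_iff (Submonoid.powers (AdjoinRoot.of G w)) (Hyp G w) _).mp hn
    have h1 : AdjoinRoot.mk G (C w ^ N * P ^ n) = 0 := by
      rw [map_mul, map_pow, map_pow]
      exact hN
    have h2 : Q ∣ C w ^ N * P ^ n := (Dvd.intro_left P hPQ).trans (AdjoinRoot.mk_eq_zero.mp h1)
    have h3 := Polynomial.map_dvd j h2
    rw [Polynomial.map_mul, Polynomial.map_pow, Polynomial.map_pow, Polynomial.map_C] at h3
    have hu : IsUnit (C (j w) ^ N) := (Polynomial.isUnit_C.mpr (Ne.isUnit fun h ↦ hw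
      (IsFractionRing.injective (MvPolynomial σ k) (FractionRing (MvPolynomial σ k))
        (h.trans (map_zero j).symm)))).pow N
    have h4 : Q.map j ∣ P.map j ^ n := (hu.dvd_mul_left).mp h3
    have h5 : IsUnit (Q.map j) := (hcop.symm.pow_right (n := n)).isUnit_of_dvd' dvd_rfl h4
    rw [← hQ.natDegree_map j]
    exact natDegree_eq_zero_of_isUnit h5
  rcases hnil.mem_or_mem hzero with h' | h'
  · exact .inr (key P Q hQ hPQ hcop h')
  · exact .inl (key Q P hP (by rw [mul_comm]; exact hPQ) hcop.symm h')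

end Groth.Agent.GeomIrredSpread
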