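import Mathlib
import Groth.Agent.GoingDown.Algebra

/-!
# Purely inseparable maps and localisations after base change
-/

set_option linter.style.haveILetI false
set_option linter.unusedSectionVars false

universe u

open TensorProduct PrimeSpectrum

namespace Groth.Agent.GeomIrredSpread

/-- `p` is one, or a prime vanishing in the ring. -/
def IsCharExp (R : Type u) [CommRing R] (p : ℕ) : Prop := p = 1 ∨ (p.Prime ∧ (p : R) = 0)

theorem IsCharExp.map {R S : Type u} [CommRing R] [CommRing S] {p : ℕ} (h : IsCharExp R p)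
    (φ : R →+* S) : IsCharExp S p := by
  rcases h with h | ⟨h, h'⟩
  · exact .inl h
  · exact .inr ⟨h, by rw [← map_natCast φ, h', map_zero]⟩

theorem IsCharExp.add_pow {R : Type u} [CommRing R] {p : ℕ} (h : IsCharExp R p) (x y : R) (n : ℕ) :
    (x + y) ^ p ^ n = x ^ p ^ n + y ^ p ^ n := by
  rcases h with rfl | ⟨h, h'⟩
  · simp
  · obtain ⟨r, hr⟩ := exists_add_pow_prime_pow_eq h x y n
    rw [hr, h']; ring

theorem IsCharExp.exists (K : Type u) [Field K] : ∃ p, IsCharExp K p ∧ ExpChar K p := by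
  obtain ⟨p, hp⟩ := ExpChar.exists K
  refine ⟨p, ?_, hp⟩
  rcases hp with _ | hprime
  · exact .inl rfl
  · exact .inr ⟨hprime, CharP.cast_eq_zero K p⟩

/-- The elements with a `p`-power in the range form a subring. -/
def powRange {R S : Type u} [CommRing R] [CommRing S] (φ : R →+* S) {p : ℕ} (h : IsCharExp S p) :
    Subring S where
  carrier := {y | ∃ m, y ^ p ^ m ∈ φ.range}
  mul_mem' := by
    rintro x y ⟨m, hm⟩ ⟨n, hn⟩
    refine ⟨m + n, ?_⟩
    rw [mul_pow, pow_add, pow_mul, mul_comm (p ^ m), pow_mul y]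
    exact mul_mem (pow_mem hm _) (pow_mem hn _)
  one_mem' := ⟨0, by simp⟩
  add_mem' := by
    rintro x y ⟨m, hm⟩ ⟨n, hn⟩
    refine ⟨m + n, ?_⟩
    rw [h.add_pow, pow_add, pow_mul, mul_comm (p ^ m), pow_mul y]
    exact add_mem (pow_mem hm _) (pow_mem hn _)
  zero_mem' := ⟨0, by simp⟩
  neg_mem' := by
    rintro x ⟨m, hm⟩
    refine ⟨m, ?_⟩
    rw [neg_pow]
    exact mul_mem (pow_mem (neg_mem (one_mem _)) _) hm

variable {A H B : Type u} [CommRing A] [CommRing H] [CommRing B] [Algebra A H] [Algebra A B]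

theorem exists_pow_mem_range_tensor (Φ : H →ₐ[A] B) {p : ℕ} (hp : IsCharExp A p)
    (h : ∀ y : B, ∃ m, y ^ p ^ m ∈ Φ.toRingHom.range) (k : Type u) [CommRing k] [Algebra A k]
    (z : B ⊗[A] k) :
    ∃ m, z ^ p ^ m ∈ (Algebra.TensorProduct.map Φ (AlgHom.id A k)).toRingHom.range := by
  have hp' : IsCharExp (B ⊗[A] k) p := hp.map (algebraMap A _)
  change z ∈ powRange (Algebra.TensorProduct.map Φ (AlgHom.id A k)).toRingHom hp'
  induction z using TensorProduct.induction_on with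
  | zero => exact zero_mem _
  | add x y hx hy => exact add_mem hx hy
  | tmul b c =>
    obtain ⟨m, x, hx⟩ := h b
    refine ⟨m, x ⊗ₜ (c ^ p ^ m), ?_⟩
    simp only [AlgHom.toRingHom_eq_coe, RingHom.coe_coe] at hx
    show Φ x ⊗ₜ[A] (c ^ p ^ m) = (b ⊗ₜ[A] c) ^ p ^ m
    rw [Algebra.TensorProduct.tmul_pow, hx]

/-- An injective map with `p`-th powers in its range is a universal homeomorphism. -/
theorem isHomeomorph_comap_tensor (Φ : H →ₐ[A] B) (hΦ : Function.Injective Φ) {p : ℕ}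
    (hp : IsCharExp A p) (hp0 : 0 < p) (h : ∀ y : B, ∃ m, y ^ p ^ m ∈ Φ.toRingHom.range)
    (k : Type u) [CommRing k] [Algebra A k] :
    IsHomeomorph (comap (Algebra.TensorProduct.map Φ (AlgHom.id A k)).toRingHom) := by
  have hΦs : Function.Surjective (comap Φ.toRingHom) :=
    (isHomeomorph_comap Φ.toRingHom (fun y ↦ by
      obtain ⟨m, hm⟩ := h y; exact ⟨p ^ m, pow_pos hp0 m, hm⟩)
      (fun x hx ↦ by rw [hΦ ((RingHom.mem_ker.mp hx).trans (map_zero Φ).symm)]; exact zero_mem _)).surjective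
  refine isHomeomorph_comap _ (fun z ↦ by
    obtain ⟨m, hm⟩ := exists_pow_mem_range_tensor Φ hp h k z; exact ⟨p ^ m, pow_pos hp0 m, hm⟩) ?_
  intro x hx
  rw [nilradical_eq_sInf, Ideal.mem_sInf]
  intro P hP
  have : P.IsPrime := hP
  letI : Algebra H B := Φ.toRingHom.toAlgebra
  have : IsScalarTower A H B := IsScalarTower.of_algebraMap_eq fun a ↦ (Φ.commutes a).symm
  obtain ⟨m, hm⟩ := hΦs ⟨P.comap (algebraMap H (H ⊗[A] k)), P.comap_isPrime _⟩
  obtain ⟨Q, hQ, -, hQP⟩ := GoingDown.exists_prime_tensor (A := A) (B := k) (D := H) (R := B) P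
    m.asIdeal (congrArg PrimeSpectrum.asIdeal hm)
  rw [← hQP, Ideal.mem_comap]
  have hxe : Algebra.TensorProduct.map (IsScalarTower.toAlgHom A H B) (AlgHom.id A k) x = 0 := by
    rw [show IsScalarTower.toAlgHom A H B = Φ from AlgHom.ext fun _ ↦ rfl]
    exact hx
  rw [hxe]
  exact zero_mem _

variable (B)

/-- The base change of a localisation is an open embedding with range a basic open. -/
theorem away_comap_tensor (h : B) (k : Type u) [CommRing k] [Algebra A k] :
    Topology.IsOpenEmbedding (comap (Algebra.TensorProduct.map (IsScalarTower.toAlgHom A B (Localization.Away h))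
        (AlgHom.id A k)).toRingHom) ∧
      Set.range (comap (Algebra.TensorProduct.map (IsScalarTower.toAlgHom A B (Localization.Away h))
        (AlgHom.id A k)).toRingHom) = basicOpen (h ⊗ₜ[A] (1 : k)) := by
  set μ := (Algebra.TensorProduct.map (IsScalarTower.toAlgHom A B (Localization.Away h))
    (AlgHom.id A k)).toRingHom with hμ
  have hu : IsUnit (μ (h ⊗ₜ[A] (1 : k))) := by
    show IsUnit (algebraMap B (Localization.Away h) h ⊗ₜ[A] (1 : k))
    exact (IsLocalization.Away.algebraMap_isUnit h).map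
      (Algebra.TensorProduct.includeLeft (R := A) (S := A) (A := Localization.Away h) (B := k))
  have hsurj : ∀ z, ∃ (N : ℕ) (w : B ⊗[A] k), z * μ (h ⊗ₜ[A] (1 : k)) ^ N = μ w := fun z ↦ by
    induction z using TensorProduct.induction_on with
    | zero => exact ⟨0, 0, by simp⟩
    | add x y hx hy =>
      obtain ⟨N, w, hw⟩ := hx
      obtain ⟨N', w', hw'⟩ := hy
      refine ⟨N + N', w * (h ⊗ₜ 1) ^ N' + w' * (h ⊗ₜ 1) ^ N, ?_⟩
      simp only [map_add, map_mul, map_pow, ← hw, ← hw']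
      ring
    | tmul b c =>
      obtain ⟨N, a, ha⟩ := IsLocalization.Away.surj h b
      refine ⟨N, a ⊗ₜ c, ?_⟩
      show (b ⊗ₜ[A] c) * (algebraMap B _ h ⊗ₜ[A] (1 : k)) ^ N = algebraMap B _ a ⊗ₜ[A] c
      rw [Algebra.TensorProduct.tmul_pow, one_pow, Algebra.TensorProduct.tmul_mul_tmul, mul_one, ha]
  have hinj : Function.Injective (comap μ) := fun P P' hPP' ↦ by
    refine PrimeSpectrum.ext (Ideal.ext fun z ↦ ?_)
    obtain ⟨N, w, hw⟩ := hsurj z
    have key : ∀ Q : PrimeSpectrum (Localization.Away h ⊗[A] k), z ∈ Q.asIdeal ↔ w ∈ (comap μ Q).asIdeal :=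
      fun Q ↦ by
        show _ ↔ μ w ∈ Q.asIdeal
        rw [← hw]
        refine ⟨Q.asIdeal.mul_mem_right _, fun hm ↦ (Q.2.mem_or_mem hm).resolve_right fun h' ↦ ?_⟩
        exact Q.2.ne_top (Ideal.eq_top_of_isUnit_mem _ h' (hu.pow N))
    rw [key P, key P', hPP']
  have hr : Set.range (comap μ) = basicOpen (h ⊗ₜ[A] (1 : k)) := by
    refine Set.Subset.antisymm ?_ fun P hP ↦ ?_
    · rintro _ ⟨P, rfl⟩ hP
      exact P.2.ne_top (Ideal.eq_top_of_isUnit_mem _ hP hu)
    have hhP : h ∉ P.asIdeal.comap (algebraMap B (B ⊗[A] k)) := hP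
    let q : PrimeSpectrum B := ⟨P.asIdeal.comap (algebraMap B (B ⊗[A] k)), P.2.comap _⟩
    obtain ⟨m, hm⟩ : q ∈ Set.range (comap (algebraMap B (Localization.Away h))) := by
      rw [localization_away_comap_range (Localization.Away h) h]; exact hhP
    obtain ⟨Q, hQ, -, hQP⟩ := GoingDown.exists_prime_tensor (A := A) (B := k) (D := B)
      (R := Localization.Away h) P.asIdeal m.asIdeal (congrArg PrimeSpectrum.asIdeal hm)
    exact ⟨⟨Q, hQ⟩, PrimeSpectrum.ext hQP⟩
  refine ⟨Topology.IsOpenEmbedding.of_continuous_injective_isOpenMap (continuous_comap μ) hinj ?_, hr⟩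
  rw [PrimeSpectrum.isTopologicalBasis_basic_opens.isOpenMap_iff]
  rintro _ ⟨z, rfl⟩
  obtain ⟨N, w, hw⟩ := hsurj z
  have hbo : (basicOpen z : Set _) = comap μ ⁻¹' (basicOpen w : Set _) := by
    refine Set.ext fun Q ↦ not_congr ?_
    show z ∈ Q.asIdeal ↔ μ w ∈ Q.asIdeal
    rw [← hw]
    refine ⟨Q.asIdeal.mul_mem_right _, fun hm ↦ (Q.2.mem_or_mem hm).resolve_right fun h' ↦ ?_⟩
    exact Q.2.ne_top (Ideal.eq_top_of_isUnit_mem _ h' (hu.pow N))
  show IsOpen (comap μ '' (basicOpen z : Set _))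
  rw [hbo, Set.image_preimage_eq_inter_range, hr]
  exact (basicOpen w).2.inter (basicOpen _).2

end Groth.Agent.GeomIrredSpread
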