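import Groth.Agent.GeomIrredSpread.Hypersurface
import Groth.Agent.GeomIrredSpread.Radicial

/-!
# A radicial map to a hypersurface
-/

set_option linter.style.haveILetI false
set_option linter.unusedSectionVars false

universe u

open Polynomial TensorProduct

namespace Groth.Agent.GeomIrredSpread

variable {A B : Type u} [CommRing A] [IsDomain A] [CommRing B] [IsDomain B] [Algebra A B]

/-- A domain of finite type is, on an open, purely inseparable over a separable hypersurface. -/
theorem exists_presentation [Algebra.FiniteType A B] (hinj : Function.Injective (algebraMap A B)) :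
    ∃ (σ : Type u) (_ : Finite σ) (F : (MvPolynomial σ A)[X]) (h₀ : MvPolynomial σ A) (h : B) (p : ℕ)
      (Φ : Hyp F h₀ →ₐ[A] Localization.Away h),
      F.Monic ∧ F ≠ 1 ∧
      (F.map (algebraMap (MvPolynomial σ A) (FractionRing (MvPolynomial σ A)))).Separable ∧
      h₀ ≠ 0 ∧ h ≠ 0 ∧ IsCharExp A p ∧ 0 < p ∧ Function.Injective Φ ∧
      ∀ y : Localization.Away h, ∃ m : ℕ, y ^ p ^ m ∈ Φ.toRingHom.range := by
  classical
  obtain ⟨s, hs⟩ := ‹Algebra.FiniteType A B›.out
  have : FaithfulSMul A B := (faithfulSMul_iff_algebraMap_injective A B).mpr hinj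
  have : Algebra.IsAlgebraic (Algebra.adjoin A (s : Set B)) B :=
    ⟨fun b ↦ isAlgebraic_algebraMap (⟨b, hs ▸ Algebra.mem_top⟩ : Algebra.adjoin A (s : Set B))⟩
  obtain ⟨t, hts, htb⟩ := exists_isTranscendenceBasis_subset (R := A) (s : Set B)
  have : Finite t := (s.finite_toSet.subset hts).to_subtype
  let x : t → B := Subtype.val
  let R := MvPolynomial t A
  letI : Algebra R B := (MvPolynomial.aeval x).toRingHom.toAlgebra
  have : IsScalarTower A R B := IsScalarTower.of_algebraMap_eq fun a ↦
    ((MvPolynomial.aeval x).commutes a).symm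
  have hRB : Function.Injective (algebraMap R B) := htb.1
  let L := FractionRing B
  let F₀ := FractionRing R
  have hRL : Function.Injective (algebraMap R L) := by
    rw [IsScalarTower.algebraMap_eq R B L]
    exact (IsFractionRing.injective B L).comp hRB
  have : FaithfulSMul R L := (faithfulSMul_iff_algebraMap_injective R L).mpr hRL
  letI : Algebra F₀ L := FractionRing.liftAlgebra R L
  have hBalg : ∀ b : B, IsAlgebraic R b := fun b ↦ by
    obtain ⟨P, hP0, hP⟩ := htb.isAlgebraic.isAlgebraic b
    let e := htb.1.aevalEquiv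
    refine ⟨P.map e.symm.toRingEquiv.toRingHom, (Polynomial.map_ne_zero_iff e.symm.injective).mpr hP0, ?_⟩
    rw [Polynomial.aeval_def, Polynomial.eval₂_map]
    convert! hP using 1
    rw [Polynomial.aeval_def]
    congr 1
    refine RingHom.ext fun c ↦ ?_
    show algebraMap R B (e.symm c) = _
    conv_rhs => rw [← e.apply_symm_apply c]
    rfl
  have hgen : ∀ b : B, IsAlgebraic F₀ (algebraMap B L b) := fun b ↦
    ((hBalg b).algebraMap (A := L)).extendScalars (IsFractionRing.injective R F₀)
  have hfin : FiniteDimensional F₀ L := by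
    let S : Set L := algebraMap B L '' (s : Set B)
    have : Finite S := (s.finite_toSet.image _).to_subtype
    have htop : IntermediateField.adjoin F₀ S = ⊤ := by
      rw [eq_top_iff]
      intro z _
      obtain ⟨b, c, -, rfl⟩ := IsFractionRing.div_surjective (A := B) z
      have key : ∀ b : B, algebraMap B L b ∈ IntermediateField.adjoin F₀ S := fun b ↦ by
        have hb : b ∈ Algebra.adjoin A (s : Set B) := hs ▸ Algebra.mem_top
        induction hb using Algebra.adjoin_induction with
        | mem y hy => exact IntermediateField.subset_adjoin F₀ S ⟨y, hy, rfl⟩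
        | algebraMap a =>
          rw [IsScalarTower.algebraMap_apply A R B, ← IsScalarTower.algebraMap_apply R B L,
            IsScalarTower.algebraMap_apply R F₀ L]
          exact IntermediateField.algebraMap_mem _ _
        | add y z _ _ hy hz => rw [map_add]; exact add_mem hy hz
        | mul y z _ _ hy hz => rw [map_mul]; exact mul_mem hy hz
      exact div_mem (key b) (key c)
    have := IntermediateField.finiteDimensional_adjoin (K := F₀) (S := S)
      (fun z ⟨b, _, hb⟩ ↦ hb ▸ (hgen b).isIntegral)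
    rw [htop] at this
    exact IntermediateField.topEquiv.toLinearEquiv.finiteDimensional
  -- the separable primitive element, scaled
  let Ls := separableClosure F₀ L
  obtain ⟨θ', hθ'⟩ := Field.exists_primitive_element F₀ Ls
  set m₀ := minpoly F₀ θ' with hm₀
  obtain ⟨c, hc⟩ := IsLocalization.exist_integer_multiples (nonZeroDivisors R) (Finset.range m₀.natDegree)
    fun i ↦ m₀.coeff i
  let θ₁ : Ls := algebraMap R F₀ c • θ'
  have hc0 : algebraMap R F₀ c ≠ 0 := fun h ↦ nonZeroDivisors.ne_zero c.2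
    (IsFractionRing.injective R F₀ (h.trans (map_zero _).symm))
  have hm₀m : m₀.Monic := minpoly.monic (Algebra.IsIntegral.isIntegral θ')
  set m₁ := m₀.scaleRoots (algebraMap R F₀ c) with hm₁
  have hm₁lift : m₁ ∈ Polynomial.lifts (algebraMap R F₀) := by
    rw [Polynomial.lifts_iff_coeff_lifts]
    intro i
    rw [hm₁, coeff_scaleRoots]
    rcases lt_trichotomy i m₀.natDegree with hi | hi | hi
    · obtain ⟨r, hr⟩ := hc i (Finset.mem_range.mpr hi)
      refine ⟨r * (c : R) ^ (m₀.natDegree - i - 1), ?_⟩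
      rw [map_mul, map_pow, hr, Algebra.smul_def, show m₀.natDegree - i = (m₀.natDegree - i - 1) + 1 by omega,
        pow_succ, Nat.add_sub_cancel]
      ring
    · rw [hi, Nat.sub_self, pow_zero, mul_one, hm₀m.coeff_natDegree]; exact ⟨1, map_one _⟩
    · rw [Polynomial.coeff_eq_zero_of_natDegree_lt hi, zero_mul]; exact ⟨0, map_zero _⟩
  have hm₁m : m₁.Monic := (monic_scaleRoots_iff _).mpr hm₀m
  obtain ⟨F, hFmap, -, hF⟩ := Polynomial.lifts_and_degree_eq_and_monic hm₁lift hm₁m
  have hθ₁root : Polynomial.aeval θ₁ m₁ = 0 := by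
    rw [hm₁, show θ₁ = algebraMap F₀ Ls (algebraMap R F₀ c) * θ' from Algebra.smul_def _ _]
    exact scaleRoots_aeval_eq_zero (minpoly.aeval _ _)
  have hθ₁gen : IntermediateField.adjoin F₀ {θ₁} = ⊤ := by
    rw [eq_top_iff, ← hθ', IntermediateField.adjoin_simple_le_iff]
    have hmem : (algebraMap R F₀ c)⁻¹ • θ₁ ∈ IntermediateField.adjoin F₀ {θ₁} :=
      IntermediateField.smul_mem _ (IntermediateField.mem_adjoin_simple_self F₀ θ₁)
    rwa [smul_smul, inv_mul_cancel₀ hc0, one_smul] at hmem
  have hm₁eq : m₁ = minpoly F₀ θ₁ := by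
    refine (Polynomial.eq_of_monic_of_dvd_of_natDegree_le (minpoly.monic (Algebra.IsIntegral.isIntegral θ₁))
      hm₁m (minpoly.dvd F₀ θ₁ hθ₁root) (le_of_eq ?_))
    rw [hm₁, natDegree_scaleRoots, ← IntermediateField.adjoin.finrank (Algebra.IsIntegral.isIntegral θ'),
      ← IntermediateField.adjoin.finrank (Algebra.IsIntegral.isIntegral θ₁), hθ', hθ₁gen]
  have hsep : (F.map (algebraMap R F₀)).Separable := by
    rw [hFmap, hm₁eq]; exact Algebra.IsSeparable.isSeparable F₀ θ₁
  have hF1 : F ≠ 1 := fun h ↦ by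
    have h1 := minpoly.natDegree_pos (Algebra.IsIntegral.isIntegral (R := F₀) θ₁)
    rw [← hm₁eq, ← hFmap, h, Polynomial.map_one, natDegree_one] at h1
    exact lt_irrefl _ h1
  set θ : L := algebraMap Ls L θ₁ with hθ
  have hθF : Polynomial.aeval θ F = 0 := by
    rw [← Polynomial.aeval_map_algebraMap F₀, hFmap, hθ, Polynomial.aeval_algebraMap_apply, hθ₁root, map_zero]
  -- the exponent
  obtain ⟨p, hp, hpe⟩ := IsCharExp.exists (FractionRing A)
  have hpA : IsCharExp A p := by
    rcases hp with h | ⟨h, h'⟩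
    · exact .inl h
    · exact .inr ⟨h, IsFractionRing.injective A (FractionRing A) (by rwa [map_natCast, map_zero])⟩
  have hp0 : 0 < p := by
    rcases hpA with h | ⟨h, -⟩
    · omega
    · exact h.pos
  have : ExpChar A p := RingHom.expChar (algebraMap A (FractionRing A)) (IsFractionRing.injective A _) p
  have : ExpChar F₀ p := expChar_of_injective_ringHom (f := algebraMap A F₀)
    (by rw [IsScalarTower.algebraMap_eq A R F₀]
        exact (IsFractionRing.injective R F₀).comp (MvPolynomial.C_injective t A)) p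
  have : ExpChar Ls p := expChar_of_injective_ringHom (f := algebraMap F₀ Ls) (algebraMap F₀ Ls).injective p
  have : IsPurelyInseparable Ls L := separableClosure.isPurelyInseparable F₀ L
  -- generators
  have hgen' : ∀ b : B, ∃ (n : ℕ) (d : R) (P : R[X]), d ≠ 0 ∧
      algebraMap R L d * algebraMap B L b ^ p ^ n = Polynomial.aeval θ P := fun b ↦ by
    obtain ⟨n, z, hz⟩ := IsPurelyInseparable.pow_mem Ls p (algebraMap B L b)
    have hzmem : z ∈ Algebra.adjoin F₀ {θ₁} := by
      rw [← IntermediateField.adjoin_simple_toSubalgebra_of_isAlgebraic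
        (Algebra.IsIntegral.isIntegral (R := F₀) θ₁).isAlgebraic, hθ₁gen]
      trivial
    obtain ⟨Q, hQ⟩ := Algebra.adjoin_singleton_eq_range_aeval F₀ θ₁ ▸ hzmem
    obtain ⟨d, hd⟩ := IsLocalization.integerNormalization_map_to_map (nonZeroDivisors R) Q
    refine ⟨n, d, IsLocalization.integerNormalization (nonZeroDivisors R) Q, nonZeroDivisors.ne_zero d.2, ?_⟩
    rw [← Polynomial.aeval_map_algebraMap F₀ θ, hd, ← IsScalarTower.algebraMap_smul F₀ (d : R) Q, map_smul, hθ,
      Polynomial.aeval_algebraMap_apply, show Polynomial.aeval θ₁ Q = z from hQ, hz, Algebra.smul_def,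
      ← IsScalarTower.algebraMap_apply]
  choose n d P hd hdP using hgen'
  -- denominators of `θ`
  obtain ⟨u, v, hv, huv⟩ := IsFractionRing.div_surjective (A := B) θ
  obtain ⟨r₀, hr₀, w, hw⟩ := (hBalg v).exists_nonzero_dvd hv
  let h₀ : R := r₀ * ∏ b ∈ s, d b
  have hh₀ : h₀ ≠ 0 := mul_ne_zero hr₀ (Finset.prod_ne_zero_iff.mpr fun b _ ↦ hd b)
  set h := algebraMap R B h₀ with hh
  have hh' : h ≠ 0 := fun e ↦ hh₀ (hRB (e.trans (map_zero _).symm))
  let Bh := Localization.Away h
  have hle : Submonoid.powers h ≤ nonZeroDivisors B := powers_le_nonZeroDivisors_of_noZeroDivisors hh'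
  let ιL : Bh →+* L := IsLocalization.lift (M := Submonoid.powers h) (g := algebraMap B L)
    fun y ↦ IsLocalization.map_units L (⟨y, hle y.2⟩ : nonZeroDivisors B)
  have hιB : ∀ b, ιL (algebraMap B Bh b) = algebraMap B L b := fun b ↦ IsLocalization.lift_eq _ b
  have hιinj : Function.Injective ιL := by
    rw [IsLocalization.lift_injective_iff]
    intro a b
    exact ⟨fun e ↦ congrArg _ (IsLocalization.injective Bh hle e),
      fun e ↦ congrArg _ (IsFractionRing.injective B L e)⟩
  have hhu : IsUnit (algebraMap B Bh h) := IsLocalization.Away.algebraMap_isUnit h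
  let θB : Bh := algebraMap B Bh (u * w * algebraMap R B (∏ b ∈ s, d b)) * hhu.unit⁻¹.val
  have hRιL : ∀ r : R, ιL (algebraMap B Bh (algebraMap R B r)) = algebraMap R L r := fun r ↦ by
    rw [hιB, ← IsScalarTower.algebraMap_apply]
  have hθB : ιL θB = θ := by
    have h1 : ιL (algebraMap B Bh h) ≠ 0 := by
      rw [hιB]; exact (map_ne_zero_iff _ (IsFractionRing.injective B L)).mpr hh'
    refine mul_right_cancel₀ h1 ?_
    rw [← map_mul, mul_assoc, IsUnit.val_inv_mul, mul_one, hιB, hιB, ← huv, hh, map_mul (algebraMap R B), hw,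
      map_mul, map_mul, map_mul, map_mul]
    have : algebraMap B L v ≠ 0 :=
      (map_ne_zero_iff _ (IsFractionRing.injective B L)).mpr (nonZeroDivisors.ne_zero hv)
    rw [div_mul_eq_mul_div, eq_div_iff this]; ring
  let a₀ : AdjoinRoot F →+* Bh := AdjoinRoot.lift ((algebraMap B Bh).comp (algebraMap R B)) θB (by
    apply hιinj
    rw [Polynomial.hom_eval₂, map_zero, hθB,
      show ιL.comp ((algebraMap B Bh).comp (algebraMap R B)) = algebraMap R L from RingHom.ext hRιL]
    exact hθF)
  let a₁ : Hyp F h₀ →+* Bh := IsLocalization.Away.lift (AdjoinRoot.of F h₀)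
    (show IsUnit (a₀ (AdjoinRoot.of F h₀)) by rw [AdjoinRoot.lift_of]; exact hhu)
  have ha₁ : ∀ y, a₁ (algebraMap (AdjoinRoot F) (Hyp F h₀) y) = a₀ y := fun y ↦ IsLocalization.Away.lift_eq _ _ y
  have ha₁A : ∀ a, a₁ (algebraMap A (Hyp F h₀) a) = algebraMap A Bh a := fun a ↦ by
    rw [IsScalarTower.algebraMap_apply A (AdjoinRoot F) (Hyp F h₀), ha₁,
      show algebraMap A (AdjoinRoot F) a = AdjoinRoot.of F (algebraMap A R a) from rfl, AdjoinRoot.lift_of,
      RingHom.comp_apply, ← IsScalarTower.algebraMap_apply, ← IsScalarTower.algebraMap_apply]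
  refine ⟨t, inferInstance, F, h₀, h, p, { a₁ with commutes' := ha₁A }, hF, hF1, hsep, hh₀, hh',
    hpA, hp0, ?_, ?_⟩
  · -- injectivity
    show Function.Injective a₁
    rw [injective_iff_map_eq_zero]
    intro y hy
    obtain ⟨⟨z, ⟨_, N, rfl⟩⟩, hz⟩ := IsLocalization.surj (Submonoid.powers (AdjoinRoot.of F h₀)) y
    obtain ⟨G, rfl⟩ := AdjoinRoot.mk_surjective z
    have h1 : a₀ (AdjoinRoot.mk F G) = 0 := by
      rw [← ha₁, ← hz, map_mul, hy, zero_mul]
    have h2 : Polynomial.aeval θ G = 0 := by
      have h3 := congrArg ιL h1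
      rw [AdjoinRoot.lift_mk, Polynomial.hom_eval₂, map_zero, hθB,
        show ιL.comp ((algebraMap B Bh).comp (algebraMap R B)) = algebraMap R L from RingHom.ext hRιL] at h3
      exact h3
    have h4 : F.map (algebraMap R F₀) ∣ G.map (algebraMap R F₀) := by
      rw [hFmap, hm₁eq, ← minpoly.algebraMap_eq (algebraMap Ls L).injective θ₁]
      exact minpoly.dvd F₀ _ (by rwa [Polynomial.aeval_map_algebraMap])
    have h5 : F ∣ G := (Polynomial.map_dvd_map _ (IsFractionRing.injective R F₀) hF).mp h4
    have hz' : y * algebraMap (AdjoinRoot F) (Hyp F h₀) (AdjoinRoot.of F h₀ ^ N) = 0 := by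
      rw [hz, AdjoinRoot.mk_eq_zero.mpr h5, map_zero]
    exact ((IsLocalization.map_units (Hyp F h₀)
      (⟨_, N, rfl⟩ : Submonoid.powers (AdjoinRoot.of F h₀))).mul_left_eq_zero).mp hz'
  · -- powers
    intro y
    have hp' : IsCharExp Bh p := hpA.map (algebraMap A Bh)
    change y ∈ powRange a₁ hp'
    have hR : ∀ r : R, algebraMap B Bh (algebraMap R B r) ∈ powRange a₁ hp' := fun r ↦
      ⟨0, algebraMap (AdjoinRoot F) (Hyp F h₀) (AdjoinRoot.of F r), by
        rw [ha₁, AdjoinRoot.lift_of]; simp⟩
    have hgenB : ∀ b : B, algebraMap B Bh b ∈ powRange a₁ hp' := fun b ↦ by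
      have hb : b ∈ Algebra.adjoin A (s : Set B) := hs ▸ Algebra.mem_top
      induction hb using Algebra.adjoin_induction with
      | mem b hb =>
        refine ⟨n b, ?_⟩
        have hdu : IsUnit (algebraMap (AdjoinRoot F) (Hyp F h₀) (AdjoinRoot.of F (d b))) := by
          refine isUnit_of_dvd_unit (map_dvd _ (map_dvd _ ?_))
            (IsLocalization.Away.algebraMap_isUnit (S := Hyp F h₀) (AdjoinRoot.of F h₀))
          exact Dvd.dvd.mul_left (Finset.dvd_prod_of_mem _ hb) _
        refine ⟨algebraMap (AdjoinRoot F) (Hyp F h₀) (AdjoinRoot.mk F (P b)) * hdu.unit⁻¹.val, ?_⟩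
        apply hιinj
        rw [map_mul, ha₁, AdjoinRoot.lift_mk, map_mul, Polynomial.hom_eval₂, hθB,
          show ιL.comp ((algebraMap B Bh).comp (algebraMap R B)) = algebraMap R L from RingHom.ext hRιL,
          ← Polynomial.aeval_def, ← hdP b, map_pow, hιB, mul_comm (algebraMap R L (d b)), mul_assoc]
        convert mul_one _
        rw [← hRιL (d b), show algebraMap B Bh (algebraMap R B (d b)) =
          a₁ (algebraMap (AdjoinRoot F) (Hyp F h₀) (AdjoinRoot.of F (d b))) by rw [ha₁, AdjoinRoot.lift_of]; rfl,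
          ← map_mul, ← map_mul, IsUnit.mul_val_inv, map_one, map_one]
      | algebraMap a =>
        rw [IsScalarTower.algebraMap_apply A R B]; exact hR _
      | add y z _ _ hy hz => rw [map_add (algebraMap B Bh)]; exact add_mem hy hz
      | mul y z _ _ hy hz => rw [map_mul (algebraMap B Bh)]; exact mul_mem hy hz
    obtain ⟨⟨b, ⟨_, N, rfl⟩⟩, hb⟩ := IsLocalization.surj (Submonoid.powers h) y
    have hinv : hhu.unit⁻¹.val ∈ powRange a₁ hp' := by
      refine ⟨0, (IsLocalization.Away.algebraMap_isUnit (S := Hyp F h₀) (AdjoinRoot.of F h₀)).unit⁻¹.val, ?_⟩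
      rw [pow_zero, pow_one]
      refine hhu.mul_left_cancel ?_
      rw [IsUnit.mul_val_inv]
      conv_lhs => rw [show algebraMap B Bh h = a₁ (algebraMap (AdjoinRoot F) (Hyp F h₀) (AdjoinRoot.of F h₀))
        by rw [ha₁, AdjoinRoot.lift_of]; rfl]
      rw [← map_mul, IsUnit.mul_val_inv, map_one]
    have hy : y = algebraMap B Bh b * hhu.unit⁻¹.val ^ N := by
      rw [← hb, map_pow, mul_assoc, ← mul_pow, IsUnit.mul_val_inv, one_pow, mul_one]
    rw [hy]
    exact mul_mem (hgenB b) (pow_mem hinv N)

end Groth.Agent.GeomIrredSpread
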