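import Groth.Agent.GeomIrredSpread.Factor
import Groth.Agent.GeomIrredSpread.Presentation
import Groth.Agent.ConsEngine.GenDense

/-!
# Geometric irreducibility spreads out
-/

set_option linter.style.haveILetI false
set_option linter.unusedSectionVars false

universe u

open PrimeSpectrum TensorProduct

namespace Groth.Agent.GeomIrredSpread

/-- A nonempty open subset of an irreducible space is irreducible. -/
theorem irreducibleSpace_of_isOpenEmbedding {α β : Type u} [TopologicalSpace α] [TopologicalSpace β]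
    {j : α → β} (hj : Topology.IsOpenEmbedding j) [IrreducibleSpace β] [Nonempty α] : IrreducibleSpace α := by
  refine { toPreirreducibleSpace := ⟨fun U V hU hV ⟨a, _, ha⟩ ⟨b, _, hb⟩ ↦ ?_⟩, toNonempty := inferInstance }
  obtain ⟨_, -, ⟨x, hx, rfl⟩, ⟨y, hy, hyx⟩⟩ := (IrreducibleSpace.isIrreducible_univ β).2 (j '' U) (j '' V)
    (hj.isOpenMap U hU) (hj.isOpenMap V hV) ⟨j a, trivial, a, ha, rfl⟩ ⟨j b, trivial, b, hb, rfl⟩
  exact ⟨x, trivial, hx, hj.injective hyx ▸ hy⟩

variable {A B : Type u} [CommRing A] [IsDomain A] [CommRing B] [IsDomain B] [Algebra A B]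
  [Algebra.FiniteType A B]

/-- Over a nonempty open of `Spec A` a nonzero element of the domain `B` lies in no minimal prime of
any field fibre. -/
theorem exists_forall_notMem_minimalPrimes {h : B} (hh : h ≠ 0) :
    ∃ f : A, f ≠ 0 ∧ ∀ (k : Type u) [Field k] [Algebra A k], algebraMap A k f ≠ 0 →
      ∀ P ∈ minimalPrimes (B ⊗[A] k), h ⊗ₜ[A] (1 : k) ∉ P := by
  obtain ⟨f, hf, hfe⟩ := ConsEngine.exists_forall_exists_le_notMem (A := A) h hh
  refine ⟨f, hf, fun k _ _ hfk P hP hhP ↦ ?_⟩
  have hPp : P.IsPrime := hP.1.1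
  let p : Ideal A := RingHom.ker (algebraMap A k)
  have hp : p.IsPrime := RingHom.ker_isPrime _
  letI : Algebra p.ResidueField k := (Ideal.ResidueField.lift p (algebraMap A k) le_rfl
    (fun a ha ↦ (Ne.isUnit fun h0 ↦ ha h0 : IsUnit (algebraMap A k a)))).toAlgebra
  have : IsScalarTower A p.ResidueField k := IsScalarTower.of_algebraMap_eq fun a ↦ by
    rw [RingHom.algebraMap_toAlgebra, Ideal.ResidueField.lift_algebraMap]
  let P₁ := P.comap (algebraMap B (B ⊗[A] k))
  have hP₁p : P₁.comap (algebraMap A B) = p := by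
    have htr : (algebraMap B (B ⊗[A] k)).comp (algebraMap A B) =
        ((Algebra.TensorProduct.includeRight (R := A) (A := B) (B := k)).toRingHom).comp (algebraMap A k) := by
      ext a
      show algebraMap A B a ⊗ₜ[A] (1 : k) = (1 : B) ⊗ₜ[A] algebraMap A k a
      rw [Algebra.algebraMap_eq_smul_one, Algebra.algebraMap_eq_smul_one, TensorProduct.smul_tmul]
    rw [Ideal.comap_comap, htr, ← Ideal.comap_comap]
    have hbot : P.comap (Algebra.TensorProduct.includeRight (R := A) (A := B) (B := k)).toRingHom = ⊥ :=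
      (Ideal.eq_bot_or_top _).resolve_right (Ideal.comap_ne_top _ hPp.ne_top)
    rw [hbot]
    exact (RingHom.ker_eq_comap_bot _).symm
  obtain ⟨q', hq'p, hq'le, hq'c, hhq'⟩ := hfe P₁ (hPp.comap _) (by
    rw [hP₁p]; exact fun h0 ↦ hfk h0)
  -- transport to the fibre ring and go down
  let T := k ⊗[p.ResidueField] (p.ResidueField ⊗[A] B)
  let e : T ≃+* B ⊗[A] k :=
    ((Algebra.TensorProduct.cancelBaseChange A p.ResidueField p.ResidueField k B).toRingEquiv).trans
      (Algebra.TensorProduct.comm A k B).toRingEquiv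
  let ι : p.ResidueField ⊗[A] B →+* T := (Algebra.TensorProduct.includeRight (R := p.ResidueField)).toRingHom
  have he : ∀ b : B, e (ι (1 ⊗ₜ b)) = b ⊗ₜ[A] (1 : k) := fun b ↦ by
    show (Algebra.TensorProduct.comm A k B)
      ((Algebra.TensorProduct.cancelBaseChange A p.ResidueField p.ResidueField k B)
        ((1 : k) ⊗ₜ[p.ResidueField] ((1 : p.ResidueField) ⊗ₜ[A] b))) = _
    simp
  letI : Algebra (p.ResidueField ⊗[A] B) T := ι.toAlgebra
  have : Module.Flat (p.ResidueField ⊗[A] B) T := by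
    have h1 : ι.Flat := by
      have h2 : (Algebra.TensorProduct.includeLeftRingHom :
          p.ResidueField ⊗[A] B →+* (p.ResidueField ⊗[A] B) ⊗[p.ResidueField] k).Flat :=
        RingHom.flat_algebraMap_iff.mpr inferInstance
      have h3 := h2.comp (RingHom.Flat.of_bijective
        (f := (Algebra.TensorProduct.comm p.ResidueField (p.ResidueField ⊗[A] B) k).toRingEquiv.toRingHom)
        (AlgEquiv.bijective _))
      convert! h3 using 1
    exact h1
  have : Algebra.HasGoingDown (p.ResidueField ⊗[A] B) T := Algebra.HasGoingDown.of_flat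
  let PT : Ideal T := P.comap e.toRingHom
  have : PT.IsPrime := hPp.comap _
  let o := PrimeSpectrum.preimageOrderIsoFiber A B ⟨p, hp⟩
  let qT : Ideal (p.ResidueField ⊗[A] B) := PT.comap ι
  let Q' := o ⟨⟨q', hq'p⟩, PrimeSpectrum.ext (hq'c.trans hP₁p)⟩
  let Q₁ := o ⟨⟨P₁, hPp.comap _⟩, PrimeSpectrum.ext hP₁p⟩
  have hq₁ : Q₁ = ⟨qT, Ideal.IsPrime.comap _⟩ := by
    apply o.symm.injective
    rw [OrderIso.symm_apply_apply]
    refine Subtype.ext (PrimeSpectrum.ext (Ideal.ext fun b ↦ ?_))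
    show algebraMap B (B ⊗[A] k) b ∈ P ↔ e (ι (1 ⊗ₜ b)) ∈ P
    rw [he]
    rfl
  have hle : Q'.asIdeal ≤ qT := by
    have h1 : Q' ≤ Q₁ := o.monotone hq'le
    rw [hq₁] at h1
    exact h1
  have hQ'prime := Q'.2
  have : PT.LiesOver qT := ⟨rfl⟩
  obtain ⟨P', hP'le, hP'prime, hP'over⟩ := Ideal.exists_ideal_le_liesOver_of_le (p := Q'.asIdeal)
    (q := qT) (Q := PT) hle
  have hmem : (P'.comap e.symm.toRingHom) ≤ P := fun z hz ↦ by
    have h1 : e.symm z ∈ PT := hP'le hz
    have h2 : e (e.symm z) ∈ P := h1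
    rwa [e.apply_symm_apply] at h2
  have hPeq := le_antisymm hmem (hP.2 ⟨hP'prime.comap _, bot_le⟩ hmem)
  refine hhq' ?_
  have h1 : h ⊗ₜ[A] (1 : k) ∈ P'.comap e.symm.toRingHom := hPeq ▸ hhP
  have h2 : ι (1 ⊗ₜ h) ∈ P' := by
    have : e.symm (h ⊗ₜ[A] (1 : k)) ∈ P' := h1
    rwa [← he, RingEquiv.symm_apply_apply] at this
  have h3 : (1 : p.ResidueField) ⊗ₜ[A] h ∈ Q'.asIdeal := by
    rw [hP'over.over]; exact h2
  have h4 : (o.symm Q').1.asIdeal = q' := by rw [OrderIso.symm_apply_apply]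
  rw [← h4]
  exact h3

omit [IsDomain A] [IsDomain B] [Algebra.FiniteType A B] in
theorem separable_map_map {R S K L : Type u} [CommRing R] [CommRing S] [Field K] [Field L] [Algebra R K]
    [IsFractionRing R K] [Algebra S L] (m : R →+* S) (hm : Function.Injective ((algebraMap S L).comp m))
    (F : Polynomial R) (h : (F.map (algebraMap R K)).Separable) :
    ((F.map m).map (algebraMap S L)).Separable := by
  have h1 := h.map (f := IsFractionRing.lift (K := K) hm)
  rw [Polynomial.map_map] at h1 ⊢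
  rwa [show (IsFractionRing.lift (K := K) hm).comp (algebraMap R K) = (algebraMap S L).comp m from
    RingHom.ext fun r ↦ IsFractionRing.lift_algebraMap hm r] at h1

/-- Geometric irreducibility of the generic fibre spreads out to an open of the base. -/
theorem exists_forall_irreducibleSpace (hinj : Function.Injective (algebraMap A B)) {Ω : Type u}
    [Field Ω] [IsAlgClosed Ω] [Algebra A Ω] (hΩinj : Function.Injective (algebraMap A Ω))
    (hΩ : IrreducibleSpace (PrimeSpectrum (B ⊗[A] Ω))) :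
    ∃ f : A, f ≠ 0 ∧ ∀ (k : Type u) [Field k] [Algebra A k], algebraMap A k f ≠ 0 →
      IrreducibleSpace (PrimeSpectrum (B ⊗[A] k)) := by
  classical
  obtain ⟨σ, _, F, h₀, h, p, Φ, hF, hF1, hsep, hh₀, hh, hp, hp0, hΦ, hpow⟩ := exists_presentation hinj
  obtain ⟨f₁, hf₁, hmin⟩ := exists_forall_notMem_minimalPrimes (A := A) hh
  -- the homeomorphism between the opens
  have key : ∀ (k : Type u) [Field k] [Algebra A k],
      IrreducibleSpace (PrimeSpectrum (Localization.Away h ⊗[A] k)) ↔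
        IrreducibleSpace (PrimeSpectrum (HypMap F h₀ k)) := fun k _ _ ↦ by
    obtain ⟨e⟩ := exists_ringEquiv F h₀ k
    let H₁ := IsHomeomorph.homeomorph _ (isHomeomorph_comap_tensor Φ hΦ hp hp0 hpow k)
    let H₂ := IsHomeomorph.homeomorph _ (PrimeSpectrum.isHomeomorph_comap_of_bijective (f := e.toRingHom) e.bijective)
    let H := H₁.trans H₂.symm
    exact ⟨fun hi ↦ Function.Surjective.irreducibleSpace H.continuous H.surjective,
      fun hi ↦ Function.Surjective.irreducibleSpace H.symm.continuous H.symm.surjective⟩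
  have hFΩ : Irreducible (F.map (MvPolynomial.map (algebraMap A Ω))) := by
    have hmapinj := MvPolynomial.map_injective (σ := σ) (algebraMap A Ω) hΩinj
    have hinjS : Function.Injective
        ((algebraMap (MvPolynomial σ Ω) (FractionRing (MvPolynomial σ Ω))).comp
          (MvPolynomial.map (algebraMap A Ω))) :=
      (IsFractionRing.injective (MvPolynomial σ Ω) (FractionRing (MvPolynomial σ Ω))).comp hmapinj
    have hsepΩ := separable_map_map (K := FractionRing (MvPolynomial σ A))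
      (L := FractionRing (MvPolynomial σ Ω)) (MvPolynomial.map (algebraMap A Ω)) hinjS F hsep
    refine irreducible_of_irreducibleSpace_hyp _ (MvPolynomial.map (algebraMap A Ω) h₀) (hF.map _)
      (fun h1 ↦ hF1 (Polynomial.map_injective _ hmapinj (h1.trans (Polynomial.map_one _).symm)))
      ((map_ne_zero_iff _ hmapinj).mpr hh₀) ?_ ((key Ω).mp ?_)
    · exact hsepΩ
    · obtain ⟨hoe, hr⟩ := away_comap_tensor (A := A) B h Ω
      have : Nonempty (PrimeSpectrum (Localization.Away h ⊗[A] Ω)) := by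
        obtain ⟨e⟩ := exists_ringEquiv F h₀ Ω
        have hne : Nontrivial (HypMap F h₀ Ω) := by
          refine nontrivial_of_ne (1 : HypMap F h₀ Ω) 0 fun h10 ↦ ?_
          obtain ⟨⟨_, N, rfl⟩, hN⟩ := (IsLocalization.map_eq_zero_iff (Submonoid.powers (AdjoinRoot.of
            (F.map (MvPolynomial.map (algebraMap A Ω))) (MvPolynomial.map (algebraMap A Ω) h₀)))
            (HypMap F h₀ Ω) 1).mp (by rw [map_one]; exact h10)
          rw [mul_one] at hN
          have h1 : AdjoinRoot.mk (F.map (MvPolynomial.map (algebraMap A Ω)))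
              (Polynomial.C (MvPolynomial.map (algebraMap A Ω) h₀ ^ N)) = 0 := by
            rw [map_pow, map_pow]; exact hN
          rw [AdjoinRoot.mk_eq_zero] at h1
          have hne0 : MvPolynomial.map (algebraMap A Ω) h₀ ^ N ≠ 0 :=
            pow_ne_zero _ ((map_ne_zero_iff _ hmapinj).mpr hh₀)
          have h2 := Polynomial.natDegree_le_of_dvd h1 (Polynomial.C_ne_zero.mpr hne0)
          rw [Polynomial.natDegree_C, hF.natDegree_map, Nat.le_zero] at h2
          exact hF1 (hF.natDegree_eq_zero.mp h2)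
        have := (PrimeSpectrum.nonempty_iff_nontrivial (R := HypMap F h₀ Ω)).mpr hne
        exact (IsHomeomorph.homeomorph _ (isHomeomorph_comap_tensor Φ hΦ hp hp0 hpow Ω)).toEquiv.nonempty_congr.mpr
          ((IsHomeomorph.homeomorph _ (PrimeSpectrum.isHomeomorph_comap_of_bijective (f := e.toRingHom)
            e.bijective)).toEquiv.nonempty_congr.mp this)
      exact irreducibleSpace_of_isOpenEmbedding hoe
  obtain ⟨f₂, hf₂, hirr⟩ := exists_forall_irreducible_map hΩinj F hF hFΩ
  obtain ⟨m, hm⟩ := MvPolynomial.ne_zero_iff.mp hh₀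
  refine ⟨f₁ * f₂ * h₀.coeff m, mul_ne_zero (mul_ne_zero hf₁ hf₂) hm, fun k _ _ hfk ↦ ?_⟩
  rw [map_mul, map_mul, mul_ne_zero_iff, mul_ne_zero_iff] at hfk
  obtain ⟨⟨hk₁, hk₂⟩, hkm⟩ := hfk
  have hQ : IrreducibleSpace (PrimeSpectrum (HypMap F h₀ k)) := by
    refine irreducibleSpace_hyp _ _ (hirr k (algebraMap A k) hk₂) (hF.map _) fun h0 ↦ hkm ?_
    rw [← MvPolynomial.coeff_map, h0, MvPolynomial.coeff_zero]
  have hU := (key k).mpr hQ
  obtain ⟨hoe, hr⟩ := away_comap_tensor (A := A) B h k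
  have hdense : Dense ((basicOpen (h ⊗ₜ[A] (1 : k))) : Set (PrimeSpectrum (B ⊗[A] k))) := by
    intro P
    obtain ⟨Q, hQ, hQP⟩ := Ideal.exists_minimalPrimes_le (I := (⊥ : Ideal (B ⊗[A] k))) (J := P.asIdeal) bot_le
    have hsp : (⟨Q, hQ.1.1⟩ : PrimeSpectrum (B ⊗[A] k)) ⤳ P := (PrimeSpectrum.le_iff_specializes _ _).mp hQP
    exact closure_mono (Set.singleton_subset_iff.mpr
      (show (⟨Q, hQ.1.1⟩ : PrimeSpectrum (B ⊗[A] k)) ∈ (basicOpen (h ⊗ₜ[A] (1 : k)) : Set _) from hmin k hk₁ Q hQ))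
      hsp.mem_closure
  have himg : IsIrreducible ((basicOpen (h ⊗ₜ[A] (1 : k))) : Set (PrimeSpectrum (B ⊗[A] k))) := by
    rw [← hr, ← Set.image_univ]
    exact (IrreducibleSpace.isIrreducible_univ _).image _ hoe.continuous.continuousOn
  rw [irreducibleSpace_def]
  show IsIrreducible (Set.univ : Set (PrimeSpectrum (B ⊗[A] k)))
  rw [← hdense.closure_eq]
  exact himg.closure

end Groth.Agent.GeomIrredSpread

namespace Groth.Agent.GeomIrredSpread

/-- Geometric irreducibility of the generic fibre of an algebra of finite type over a Noetherian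
domain spreads out to the fields at which some nonzero element is invertible. -/
theorem exists_forall_irreducibleSpace' {A B : Type u} [CommRing A] [IsDomain A] [IsNoetherianRing A]
    [CommRing B] [Algebra A B] [Algebra.FiniteType A B] {Ω : Type u} [Field Ω] [IsAlgClosed Ω]
    [Algebra A Ω] (hΩinj : Function.Injective (algebraMap A Ω))
    (hΩ : IrreducibleSpace (PrimeSpectrum (B ⊗[A] Ω))) :
    ∃ f : A, f ≠ 0 ∧ ∀ (k : Type u) [Field k] [Algebra A k], algebraMap A k f ≠ 0 →
      IrreducibleSpace (PrimeSpectrum (B ⊗[A] k)) := by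
  classical
  have hnoethB : IsNoetherianRing B := Algebra.FiniteType.isNoetherianRing A B
  -- points of the generic fibre lift to the geometric generic fibre
  have hlift : ∀ q : Ideal B, q.IsPrime → q.comap (algebraMap A B) = ⊥ →
      ∃ P : PrimeSpectrum (B ⊗[A] Ω), P.asIdeal.comap (algebraMap B (B ⊗[A] Ω)) = q := by
    intro q hq hqb
    letI : Algebra A (PUnit.{u + 1}) := inferInstance
    let e := Algebra.TensorProduct.comm A Ω B
    have hm : (⊥ : Ideal Ω).comap (algebraMap A Ω) = (q.comap (Algebra.TensorProduct.lid A B).toRingEquiv.toRingHom).comap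
        (algebraMap A (A ⊗[A] B)) := by
      rw [Ideal.comap_comap, ← RingHom.ker_eq_comap_bot, (RingHom.injective_iff_ker_eq_bot _).mp hΩinj, ← hqb]
      congr 1
      ext a
      show algebraMap A B a = Algebra.TensorProduct.lid A B (algebraMap A (A ⊗[A] B) a)
      exact ((Algebra.TensorProduct.lid A B).commutes a).symm
    obtain ⟨P, hP, -, hPq⟩ := GoingDown.exists_prime_tensor (A := A) (B := B) (D := A) (R := Ω)
      (q.comap (Algebra.TensorProduct.lid A B).toRingEquiv.toRingHom) (⊥ : Ideal Ω) hm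
    refine ⟨⟨P.comap e.symm.toRingEquiv.toRingHom, hP.comap _⟩, Ideal.ext fun b ↦ ?_⟩
    have h1 := congrArg (fun I : Ideal (A ⊗[A] B) ↦ (1 : A) ⊗ₜ[A] b ∈ I) hPq
    simp only [Ideal.mem_comap] at h1
    show e.symm (b ⊗ₜ[A] (1 : Ω)) ∈ P ↔ b ∈ q
    rw [show e.symm (b ⊗ₜ[A] (1 : Ω)) = (1 : Ω) ⊗ₜ[A] b from rfl]
    convert! Iff.of_eq h1 using 2 <;> simp
  -- the generic point of the generic fibre
  have := hΩ.toNonempty
  obtain ⟨P₀, hP₀⟩ := QuasiSober.sober (IrreducibleSpace.isIrreducible_univ (PrimeSpectrum (B ⊗[A] Ω)))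
    isClosed_univ
  let q := P₀.asIdeal.comap (algebraMap B (B ⊗[A] Ω))
  have hqP : ∀ P : PrimeSpectrum (B ⊗[A] Ω), q ≤ P.asIdeal.comap (algebraMap B (B ⊗[A] Ω)) := fun P ↦
    Ideal.comap_mono ((PrimeSpectrum.le_iff_specializes _ _).mpr (hP₀.specializes trivial))
  have hqA : q.comap (algebraMap A B) = ⊥ := by
    have htr : (algebraMap B (B ⊗[A] Ω)).comp (algebraMap A B) =
        ((Algebra.TensorProduct.includeRight (R := A) (A := B) (B := Ω)).toRingHom).comp (algebraMap A Ω) := by
      ext a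
      show algebraMap A B a ⊗ₜ[A] (1 : Ω) = (1 : B) ⊗ₜ[A] algebraMap A Ω a
      rw [Algebra.algebraMap_eq_smul_one, Algebra.algebraMap_eq_smul_one, TensorProduct.smul_tmul]
    rw [Ideal.comap_comap, htr, ← Ideal.comap_comap,
      (Ideal.eq_bot_or_top (P₀.asIdeal.comap _)).resolve_right (Ideal.comap_ne_top _ P₀.2.ne_top),
      ← RingHom.ker_eq_comap_bot, (RingHom.injective_iff_ker_eq_bot _).mp hΩinj]
  have hother : ∀ Q ∈ minimalPrimes B, Q ≠ q → ∃ a : A, a ≠ 0 ∧ algebraMap A B a ∈ Q := by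
    intro Q hQ hne
    by_contra hcon
    push Not at hcon
    have hQb : Q.comap (algebraMap A B) = ⊥ := eq_bot_iff.mpr fun a ha ↦ by
      by_contra h0
      exact hcon a h0 ha
    obtain ⟨P, hP⟩ := hlift Q hQ.1.1 hQb
    have hle : q ≤ Q := hP ▸ hqP P
    exact hne (le_antisymm (hQ.2 ⟨P₀.2.comap _, bot_le⟩ hle) hle)
  choose a ha haQ using hother
  let S := ((minimalPrimes.finite_of_isNoetherianRing B).toFinset.filter (· ≠ q))
  let g : A := ∏ Q ∈ S.attach, a Q.1
    ((minimalPrimes.finite_of_isNoetherianRing B).mem_toFinset.mp (Finset.mem_filter.mp Q.2).1)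
    (Finset.mem_filter.mp Q.2).2
  have hg : g ≠ 0 := Finset.prod_ne_zero_iff.mpr fun Q _ ↦ ha _ _ _
  have : q.IsPrime := P₀.2.comap _
  -- the reduction to the domain `B ⧸ q`
  have hinjq : Function.Injective (algebraMap A (B ⧸ q)) := by
    rw [injective_iff_map_eq_zero]
    intro c hc
    have : c ∈ q.comap (algebraMap A B) := Ideal.Quotient.eq_zero_iff_mem (I := q).mp hc
    rwa [hqA, Ideal.mem_bot] at this
  have hhom : ∀ (k : Type u) [Field k] [Algebra A k],
      (∀ P : PrimeSpectrum (B ⊗[A] k), q ≤ P.asIdeal.comap (algebraMap B (B ⊗[A] k))) →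
      IsHomeomorph (comap (Algebra.TensorProduct.map (Ideal.Quotient.mkₐ A q) (AlgHom.id A k)).toRingHom) := by
    intro k _ _ hk
    refine PrimeSpectrum.isHomeomorph_comap _ (fun z ↦ ⟨1, one_pos, ?_⟩) ?_
    · rw [pow_one]
      exact (TensorProduct.map_surjective Ideal.Quotient.mk_surjective (Function.surjective_id)) z
    · rw [nilradical_eq_sInf]
      refine le_sInf fun P hP ↦ ?_
      have : P.IsPrime := hP
      intro z hz
      have h1 : RingHom.ker (Algebra.TensorProduct.map (Ideal.Quotient.mkₐ A q) (AlgHom.id A k)) =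
          (RingHom.ker (Ideal.Quotient.mkₐ A q)).map (Algebra.TensorProduct.includeLeft (R := A) (B := k)) :=
        Algebra.TensorProduct.rTensor_ker _ Ideal.Quotient.mk_surjective
      have h2 : z ∈ RingHom.ker (Algebra.TensorProduct.map (Ideal.Quotient.mkₐ A q) (AlgHom.id A k)) := hz
      rw [h1] at h2
      refine (Ideal.map_le_iff_le_comap.mpr fun b hb ↦ ?_) h2
      exact hk ⟨P, hP⟩ (Ideal.Quotient.eq_zero_iff_mem.mp hb)
  have hΩ' : IrreducibleSpace (PrimeSpectrum ((B ⧸ q) ⊗[A] Ω)) := by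
    let H := IsHomeomorph.homeomorph _ (hhom Ω hqP)
    exact Function.Surjective.irreducibleSpace H.symm.continuous H.symm.surjective
  obtain ⟨f, hf, hirr⟩ := exists_forall_irreducibleSpace hinjq hΩinj hΩ'
  refine ⟨f * g, mul_ne_zero hf hg, fun k _ _ hk ↦ ?_⟩
  rw [map_mul, mul_ne_zero_iff] at hk
  have hqk : ∀ P : PrimeSpectrum (B ⊗[A] k), q ≤ P.asIdeal.comap (algebraMap B (B ⊗[A] k)) := by
    intro P
    obtain ⟨Q, hQ, hQP⟩ := Ideal.exists_minimalPrimes_le (I := (⊥ : Ideal B))
      (J := P.asIdeal.comap (algebraMap B (B ⊗[A] k))) bot_le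
    by_cases hQq : Q = q
    · exact hQq ▸ hQP
    exfalso
    have hQS : Q ∈ S := Finset.mem_filter.mpr ⟨(minimalPrimes.finite_of_isNoetherianRing B).mem_toFinset.mpr hQ, hQq⟩
    have hmem : algebraMap A B g ∈ Q := by
      simp only [g, map_prod]
      exact Ideal.mem_of_dvd _ (Finset.dvd_prod_of_mem _ (Finset.mem_attach S ⟨Q, hQS⟩)) (haQ _ _ _)
    have h1 : algebraMap A (B ⊗[A] k) g ∈ P.asIdeal := hQP hmem
    have h2 : (1 : B) ⊗ₜ[A] algebraMap A k g ∈ P.asIdeal := by
      convert h1 using 1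
      rw [Algebra.algebraMap_eq_smul_one, Algebra.algebraMap_eq_smul_one, Algebra.TensorProduct.one_def,
        TensorProduct.tmul_smul]
    exact P.2.ne_top (Ideal.eq_top_of_isUnit_mem _ h2
      (hk.2.isUnit.map (Algebra.TensorProduct.includeRight (R := A) (A := B) (B := k))))
  let H := IsHomeomorph.homeomorph _ (hhom k hqk)
  have := hirr k hk.1
  exact Function.Surjective.irreducibleSpace H.continuous H.surjective

end Groth.Agent.GeomIrredSpread
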